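import Cfsg.Agent.Lib.Steinberg.Gen.RepCheck
import Cfsg.Agent.Lib.Chevalley.Tbl.E6

/-! The minuscule representation of the type E6 -/

set_option autoImplicit false

namespace Cfsg.Agent.Lib.Steinberg.Gen.RepData.E6

open Cfsg.Lie Cfsg.Agent.Lib.Chevalley.SysOf

set_option maxHeartbeats 0

/-- The unit. -/
def pp : ℤ := 1

/-- The negative of the unit. -/
def mm : ℤ := -1

/-- The sparse matrices of the root elements. -/
def tbL : List Sp :=
  [[(20, 0, pp), (21, 1, pp), (23, 2, pp), (24, 3, pp), (25, 5, pp), (26, 7, pp)], [(18, 0, mm), (19, 1, mm), (22, 2, mm), (24, 4, pp), (25, 6, pp), (26, 9, pp)], [(16, 0, pp), (17, 1, pp), (22, 3, mm), (23, 4, mm), (25, 8, pp), (26, 11, pp)], [(13, 0, mm), (15, 1, mm), (22, 5, mm), (23, 6, mm), (24, 8, mm), (26, 14, pp)], [(10, 0, pp), (12, 1, pp), (22, 7, mm), (23, 9, mm), (24, 11, mm), (25, 14, mm)], [(14, 0, mm), (17, 2, pp), (19, 3, pp), (21,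 4, pp), (25, 10, pp), (26, 13, pp)], [(11, 0, pp), (15, 2, mm), (19, 5, pp), (21, 6, pp), (24, 10, mm), (26, 16, pp)], [(8, 0, mm), (12, 2, pp), (19, 7, pp), (21, 9, pp), (24, 13, mm), (25, 16, mm)], [(9, 0, mm), (15, 3, mm), (17, 5, mm), (21, 8, pp), (23, 10, pp), (26, 18, pp)], [(6, 0, pp), (12, 3, pp), (17, 7, mm), (21, 11, pp), (23, 13, pp), (25, 18, mm)], [(4, 0, mm), (12, 5, pp), (15, 7, pp), (21, 14, pp), (23, 16, pp), (24, 18, pp)], [(7, 0, pp), (15, 4, mm), (17, 6, mm), (19, 8, mm), (22, 10, mm), (26, 20, pp)], [(5, 0, mm), (12, 4, pp), (17, 9, mm), (19, 11, mm), (22, 13, mm), (25, 20, mm)], [(3, 0, pp), (12, 6, pp), (15, 9, pp), (19, 14, mm), (22, 16, mm), (24, 20, pp)], [(2, 0, mm), (12, 8, pp), (15, 11, pp), (17, 14, pp), (22, 18, mm), (23, 20, mm)], [(1, 0, pp), (12, 10, pp), (15, 13, pp), (17, 16, pp), (19, 18, pp), (21, 20, pp)], [(14, 1, pp), (16, 2, pp), (18, 3, pp),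 (20, 4, pp), (25, 12, mm), (26, 15, mm)], [(11, 1, mm), (13, 2, mm), (18, 5, pp), (20, 6, pp), (24, 12, pp), (26, 17, mm)], [(8, 1, pp), (10, 2, pp), (18, 7, pp), (20, 9, pp), (24, 15, pp), (25, 17, pp)], [(9, 1, pp), (13, 3, mm), (16, 5, mm), (20, 8, pp), (23, 12, mm), (26, 19, mm)], [(6, 1, mm), (10, 3, pp), (16, 7, mm), (20, 11, pp), (23, 15, mm), (25, 19, pp)], [(4, 1, pp), (10, 5, pp), (13, 7, pp), (20, 14, pp), (23, 17, mm), (24, 19, mm)], [(9, 2, pp), (11, 3, pp), (14, 5, pp), (20, 10, pp), (21, 12, pp), (26, 22, mm)], [(6, 2, mm), (8, 3, mm), (14, 7, pp), (20, 13, pp), (21, 15, pp), (25, 22, pp)], [(4, 2, pp), (8, 5, mm), (11, 7, mm), (20, 16, pp), (21, 17, pp), (24, 22, mm)], [(4, 3, pp), (6, 5, pp), (9, 7, pp), (20, 18, pp), (21, 19, pp), (23, 22, pp)], [(7, 1, mm), (13, 4, mm), (16, 6, mm), (18, 8, mm), (22, 12, pp), (26, 21, mm)], [(5, 1, pp), (10, 4, pp), (16, 9, mm), (18,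 11, mm), (22, 15, pp), (25, 21, pp)], [(3, 1, mm), (10, 6, pp), (13, 9, pp), (18, 14, mm), (22, 17, pp), (24, 21, mm)], [(2, 1, pp), (10, 8, pp), (13, 11, pp), (16, 14, pp), (22, 19, pp), (23, 21, pp)], [(7, 2, pp), (11, 4, mm), (14, 6, mm), (18, 10, pp), (19, 12, pp), (26, 23, pp)], [(5, 2, mm), (8, 4, pp), (14, 9, mm), (18, 13, pp), (19, 15, pp), (25, 23, mm)], [(3, 2, pp), (8, 6, pp), (11, 9, pp), (18, 16, pp), (19, 17, pp), (24, 23, pp)], [(7, 3, mm), (9, 4, mm), (14, 8, pp), (16, 10, pp), (17, 12, pp), (26, 24, mm)], [(5, 3, pp), (6, 4, pp), (14, 11, pp), (16, 13, pp), (17, 15, pp), (25, 24, pp)], [(7, 5, pp), (9, 6, pp), (11, 8, pp), (13, 10, pp), (15, 12, pp), (26, 25, pp)], [(5, 7, pp), (6, 9, pp), (8, 11, pp), (10, 13, pp), (12, 15, pp), (25, 26, pp)], [(3, 5, pp), (4, 6, pp), (11, 14, pp), (13, 16, pp), (15, 17, pp), (24, 25, pp)], [(3, 7, mm), (4, 9, mm), (8, 14, pp), (10,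 16, pp), (12, 17, pp), (24, 26, mm)], [(2, 3, pp), (6, 8, pp), (9, 11, pp), (16, 18, pp), (17, 19, pp), (23, 24, pp)], [(2, 5, mm), (4, 8, pp), (9, 14, mm), (13, 18, pp), (15, 19, pp), (23, 25, mm)], [(2, 7, pp), (4, 11, mm), (6, 14, mm), (10, 18, pp), (12, 19, pp), (23, 26, pp)], [(1, 2, pp), (8, 10, pp), (11, 13, pp), (14, 16, pp), (19, 22, pp), (21, 23, pp)], [(1, 3, mm), (6, 10, pp), (9, 13, pp), (14, 18, mm), (17, 22, pp), (21, 24, mm)], [(1, 5, pp), (4, 10, pp), (9, 16, mm), (11, 18, mm), (15, 22, pp), (21, 25, pp)], [(1, 7, mm), (4, 13, mm), (6, 16, mm), (8, 18, mm), (12, 22, pp), (21, 26, mm)], [(3, 4, pp), (5, 6, pp), (7, 9, pp), (18, 20, pp), (19, 21, pp), (22, 23, pp)], [(2, 4, pp), (5, 8, mm), (7, 11, mm), (16, 20, pp), (17, 21, pp), (22, 24, mm)], [(2, 6, mm), (3, 8, mm), (7, 14, pp), (13, 20, pp), (15, 21, pp), (22, 25, pp)], [(2, 9, pp), (3, 11, pp), (5, 14, pp), (10,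 20, pp), (12, 21, pp), (22, 26, mm)], [(1, 4, pp), (5, 10, pp), (7, 13, pp), (14, 20, pp), (17, 23, mm), (19, 24, mm)], [(1, 6, mm), (3, 10, pp), (7, 16, mm), (11, 20, pp), (15, 23, mm), (19, 25, pp)], [(1, 9, pp), (3, 13, mm), (5, 16, mm), (8, 20, pp), (12, 23, mm), (19, 26, mm)], [(1, 8, pp), (2, 10, pp), (7, 18, pp), (9, 20, pp), (15, 24, pp), (17, 25, pp)], [(1, 11, mm), (2, 13, mm), (5, 18, pp), (6, 20, pp), (12, 24, pp), (17, 26, mm)], [(1, 14, pp), (2, 16, pp), (3, 18, pp), (4, 20, pp), (12, 25, mm), (15, 26, mm)], [(0, 1, pp), (10, 12, pp), (13, 15, pp), (16, 17, pp), (18, 19, pp), (20, 21, pp)], [(0, 2, mm), (8, 12, pp), (11, 15, pp), (14, 17, pp), (18, 22, mm), (20, 23, mm)], [(0, 3, pp), (6, 12, pp), (9, 15, pp), (14, 19, mm), (16, 22, mm), (20, 24, pp)], [(0, 5, mm), (4, 12, pp), (9, 17, mm), (11, 19, mm), (13, 22, mm), (20, 25, mm)], [(0, 7, pp), (4, 15, mm), (6, 17, mm),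 (8, 19, mm), (10, 22, mm), (20, 26, pp)], [(0, 4, mm), (5, 12, pp), (7, 15, pp), (14, 21, pp), (16, 23, pp), (18, 24, pp)], [(0, 6, pp), (3, 12, pp), (7, 17, mm), (11, 21, pp), (13, 23, pp), (18, 25, mm)], [(0, 9, mm), (3, 15, mm), (5, 17, mm), (8, 21, pp), (10, 23, pp), (18, 26, pp)], [(0, 8, mm), (2, 12, pp), (7, 19, pp), (9, 21, pp), (13, 24, mm), (16, 25, mm)], [(0, 11, pp), (2, 15, mm), (5, 19, pp), (6, 21, pp), (10, 24, mm), (16, 26, pp)], [(0, 14, mm), (2, 17, pp), (3, 19, pp), (4, 21, pp), (10, 25, pp), (13, 26, pp)], [(0, 10, pp), (1, 12, pp), (7, 22, mm), (9, 23, mm), (11, 24, mm), (14, 25, mm)], [(0, 13, mm), (1, 15, mm), (5, 22, mm), (6, 23, mm), (8, 24, mm), (14, 26, pp)], [(0, 16, pp), (1, 17, pp), (3, 22, mm), (4, 23, mm), (8, 25, pp), (11, 26, pp)], [(0, 18, mm), (1, 19, mm), (2, 22, mm), (4, 24, pp), (6, 25, pp), (9, 26, pp)], [(0, 20, pp), (1, 21, pp), (2, 23, pp),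 (3, 24, pp), (5, 25, pp), (7, 26, pp)]]

/-- The matrix of a root. -/
def tb (r : ℕ) : Sp := tbL.getD r []

/-- The matrices of the `n_i`. -/
def UL : List Sp :=
  [[(0, 1, pp), (1, 0, mm), (2, 2, pp), (3, 3, pp), (4, 4, pp), (5, 5, pp), (6, 6, pp), (7, 7, pp), (8, 8, pp), (9, 9, pp), (10, 12, pp), (11, 11, pp), (12, 10, mm), (13, 15, pp), (14, 14, pp), (15, 13, mm), (16, 17, pp), (17, 16, mm), (18, 19, pp), (19, 18, mm), (20, 21, pp), (21, 20, mm), (22, 22, pp), (23, 23, pp), (24, 24, pp), (25, 25, pp), (26, 26, pp)],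
  [(0, 0, pp), (1, 1, pp), (2, 2, pp), (3, 4, pp), (4, 3, mm), (5, 6, pp), (6, 5, mm), (7, 9, pp), (8, 8, pp), (9, 7, mm), (10, 10, pp), (11, 11, pp), (12, 12, pp), (13, 13, pp), (14, 14, pp), (15, 15, pp), (16, 16, pp), (17, 17, pp), (18, 20, pp), (19, 21, pp), (20, 18, mm), (21, 19, mm), (22, 23, pp), (23, 22, mm), (24, 24, pp), (25, 25, pp), (26, 26, pp)],
  [(0, 0, pp), (1, 2, pp), (2, 1, mm), (3, 3, pp), (4, 4, pp), (5, 5, pp), (6, 6, pp), (7, 7, pp), (8, 10, pp), (9, 9, pp), (10, 8, mm), (11, 13, pp), (12, 12, pp), (13, 11, mm), (14, 16, pp), (15, 15, pp), (16, 14, mm), (17, 17, pp), (18, 18, pp), (19, 22, pp), (20, 20, pp), (21, 23, pp), (22, 19, mm), (23, 21, mm), (24, 24, pp), (25, 25, pp), (26, 26, pp)],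
  [(0, 0, pp), (1, 1, pp), (2, 3, pp), (3, 2, mm), (4, 4, pp), (5, 5, pp), (6, 8, pp), (7, 7, pp), (8, 6, mm), (9, 11, pp), (10, 10, pp), (11, 9, mm), (12, 12, pp), (13, 13, pp), (14, 14, pp), (15, 15, pp), (16, 18, pp), (17, 19, pp), (18, 16, mm), (19, 17, mm), (20, 20, pp), (21, 21, pp), (22, 22, pp), (23, 24, pp), (24, 23, mm), (25, 25, pp), (26, 26, pp)],
  [(0, 0, pp), (1, 1, pp), (2, 2, pp), (3, 5, pp), (4, 6, pp), (5, 3, mm), (6, 4, mm), (7, 7, pp), (8, 8, pp), (9, 9, pp), (10, 10, pp), (11, 14, pp), (12, 12, pp), (13, 16, pp), (14, 11, mm), (15, 17, pp), (16, 13, mm), (17, 15, mm), (18, 18, pp), (19, 19, pp), (20, 20, pp), (21, 21, pp), (22, 22, pp), (23, 23, pp), (24, 25, pp), (25, 24, mm), (26, 26, pp)],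
  [(0, 0, pp), (1, 1, pp), (2, 2, pp), (3, 3, pp), (4, 4, pp), (5, 7, pp), (6, 9, pp), (7, 5, mm), (8, 11, pp), (9, 6, mm), (10, 13, pp), (11, 8, mm), (12, 15, pp), (13, 10, mm), (14, 14, pp), (15, 12, mm), (16, 16, pp), (17, 17, pp), (18, 18, pp), (19, 19, pp), (20, 20, pp), (21, 21, pp), (22, 22, pp), (23, 23, pp), (24, 24, pp), (25, 26, pp), (26, 25, mm)]]

/-- The inverses of the matrices of the `n_i`. -/
def VL : List Sp :=
  [[(0, 1, mm), (1, 0, pp), (2, 2, pp), (3, 3, pp), (4, 4, pp), (5, 5, pp), (6, 6, pp), (7, 7, pp), (8, 8, pp), (9, 9, pp), (10, 12, mm), (11, 11, pp), (12, 10, pp), (13, 15, mm), (14, 14, pp), (15, 13, pp), (16, 17, mm), (17, 16, pp), (18, 19, mm), (19, 18, pp), (20, 21, mm), (21, 20, pp), (22, 22, pp), (23, 23, pp), (24, 24, pp), (25, 25, pp), (26, 26, pp)],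
  [(0, 0, pp), (1, 1, pp), (2, 2, pp), (3, 4, mm), (4, 3, pp), (5, 6, mm), (6, 5, pp), (7, 9, mm), (8, 8, pp), (9, 7, pp), (10, 10, pp), (11, 11, pp), (12, 12, pp), (13, 13, pp), (14, 14, pp), (15, 15, pp), (16, 16, pp), (17, 17, pp), (18, 20, mm), (19, 21, mm), (20, 18, pp), (21, 19, pp), (22, 23, mm), (23, 22, pp), (24, 24, pp), (25, 25, pp), (26, 26, pp)],
  [(0, 0, pp), (1, 2, mm), (2, 1, pp), (3, 3, pp), (4, 4, pp), (5, 5, pp), (6, 6, pp), (7, 7, pp), (8, 10, mm), (9, 9, pp), (10, 8, pp), (11, 13, mm), (12, 12, pp), (13, 11, pp), (14, 16, mm), (15, 15, pp), (16, 14, pp), (17, 17, pp), (18, 18, pp), (19, 22, mm), (20, 20, pp), (21, 23, mm), (22, 19, pp), (23, 21, pp), (24, 24, pp), (25, 25, pp), (26, 26, pp)],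
  [(0, 0, pp), (1, 1, pp), (2, 3, mm), (3, 2, pp), (4, 4, pp), (5, 5, pp), (6, 8, mm), (7, 7, pp), (8, 6, pp), (9, 11, mm), (10, 10, pp), (11, 9, pp), (12, 12, pp), (13, 13, pp), (14, 14, pp), (15, 15, pp), (16, 18, mm), (17, 19, mm), (18, 16, pp), (19, 17, pp), (20, 20, pp), (21, 21, pp), (22, 22, pp), (23, 24, mm), (24, 23, pp), (25, 25, pp), (26, 26, pp)],
  [(0, 0, pp), (1, 1, pp), (2, 2, pp), (3, 5, mm), (4, 6, mm), (5, 3, pp), (6, 4, pp), (7, 7, pp), (8, 8, pp), (9, 9, pp), (10, 10, pp), (11, 14, mm), (12, 12, pp), (13, 16, mm), (14, 11, pp), (15, 17, mm), (16, 13, pp), (17, 15, pp), (18, 18, pp), (19, 19, pp), (20, 20, pp), (21, 21, pp), (22, 22, pp), (23, 23, pp), (24, 25, mm), (25, 24, pp), (26, 26, pp)],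
  [(0, 0, pp), (1, 1, pp), (2, 2, pp), (3, 3, pp), (4, 4, pp), (5, 7, mm), (6, 9, mm), (7, 5, pp), (8, 11, mm), (9, 6, pp), (10, 13, mm), (11, 8, pp), (12, 15, mm), (13, 10, pp), (14, 14, pp), (15, 12, pp), (16, 16, pp), (17, 17, pp), (18, 18, pp), (19, 19, pp), (20, 20, pp), (21, 21, pp), (22, 22, pp), (23, 23, pp), (24, 24, pp), (25, 26, mm), (26, 25, pp)]]

/-- The vector of the central elements. -/
def wL : List ℤ := [1, 0, 2, 0, 1, 2]

/-- The coefficients expressing the components by the characters. -/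
def bL : List (List ℤ) := [[0, 0, 0, 0, 0, 0], [1, 2, 2, 3, 2, 1], [-1, 0, 0, 0, 0, 0], [2, 3, 4, 6, 4, 2], [0, 1, 1, 2, 2, 1], [-2, -1, -2, -2, -1, 0]]

/-- The coefficients expressing the order by the characters. -/
def aL : List ℤ := [4, 3, 5, 6, 4, 2]

theorem c1 : baseChk chevE6 72 27 71 tb = true := by decide +kernel

theorem u0 : conjChk chevE6 72 27 0 tb (UL.getD 0 []) (VL.getD 0 []) (etaOf Cfsg.Agent.Lib.Chevalley.Tbl.E6.wT 0) = true := by decide +kernel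
theorem u1 : conjChk chevE6 72 27 1 tb (UL.getD 1 []) (VL.getD 1 []) (etaOf Cfsg.Agent.Lib.Chevalley.Tbl.E6.wT 1) = true := by decide +kernel
theorem u2 : conjChk chevE6 72 27 2 tb (UL.getD 2 []) (VL.getD 2 []) (etaOf Cfsg.Agent.Lib.Chevalley.Tbl.E6.wT 2) = true := by decide +kernel
theorem u3 : conjChk chevE6 72 27 3 tb (UL.getD 3 []) (VL.getD 3 []) (etaOf Cfsg.Agent.Lib.Chevalley.Tbl.E6.wT 3) = true := by decide +kernel
theorem u4 : conjChk chevE6 72 27 4 tb (UL.getD 4 []) (VL.getD 4 []) (etaOf Cfsg.Agent.Lib.Chevalley.Tbl.E6.wT 4) = true := by decide +kernel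
theorem u5 : conjChk chevE6 72 27 5 tb (UL.getD 5 []) (VL.getD 5 []) (etaOf Cfsg.Agent.Lib.Chevalley.Tbl.E6.wT 5) = true := by decide +kernel

theorem c2 : hwChk chevE6 27 tb 0 = true := by decide +kernel

theorem c3 : CenFacts chevE6 3 0 (fun j => wL.getD j 0) (fun j i => (bL.getD j []).getD i 0) (fun i => aL.getD i 0) where
  hb := by decide +kernel
  ha := by decide +kernel
  hw := by decide +kernel
  hd := by decide +kernel

theorem conj_all : ∀ i < chevE6.rank, ∃ U V, conjChk chevE6 72 27 i tb U V (etaOf Cfsg.Agent.Lib.Chevalley.Tbl.E6.wT i) = true := by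
  intro i hi
  have hi' : i < 6 := hi
  interval_cases i
  · exact ⟨_, _, u0⟩
  · exact ⟨_, _, u1⟩
  · exact ⟨_, _, u2⟩
  · exact ⟨_, _, u3⟩
  · exact ⟨_, _, u4⟩
  · exact ⟨_, _, u5⟩

end Cfsg.Agent.Lib.Steinberg.Gen.RepData.E6
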