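import Cfsg.Agent.Lib.Steinberg.Gen.RepCheck
import Cfsg.Agent.Lib.Chevalley.Tbl.E7

/-! The minuscule representation of the type E7 -/

set_option autoImplicit false

namespace Cfsg.Agent.Lib.Steinberg.Gen.RepData.E7

open Cfsg.Lie Cfsg.Agent.Lib.Chevalley.SysOf

set_option maxHeartbeats 0

/-- The unit. -/
def pp : ℤ := 1

/-- The negative of the unit. -/
def mm : ℤ := -1

/-- The sparse matrices of the root elements. -/
def tbL : List Sp :=
  [[(37, 0, mm), (40, 1, mm), (43, 2, mm), (45, 3, mm), (47, 4, mm), (49, 5, mm), (50, 6, mm), (51, 7, mm), (52, 10, mm), (53, 12, mm), (54, 15, mm), (55, 18, mm)], [(34, 0, pp), (38, 1, pp), (41, 2, pp), (44, 3, pp), (46, 4, pp), (48, 5, pp), (50, 8, mm), (51, 9, mm), (52, 11, mm), (53, 14, mm), (54, 17, mm), (55, 21, mm)], [(31, 0, mm), (35, 1, mm), (39, 2, mm), (42, 3, mm), (46, 6, pp), (47, 8, pp), (48, 7, pp), (49, 9, pp), (52, 13, mm), (53, 16, mm), (54,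 20, mm), (55, 24, mm)], [(28, 0, pp), (32, 1, pp), (36, 2, pp), (42, 4, mm), (44, 6, mm), (45, 8, mm), (48, 10, pp), (49, 11, pp), (51, 13, pp), (53, 19, mm), (54, 23, mm), (55, 27, mm)], [(25, 0, mm), (29, 1, mm), (36, 3, pp), (39, 4, pp), (41, 6, pp), (43, 8, pp), (48, 12, pp), (49, 14, pp), (51, 16, pp), (52, 19, pp), (54, 26, mm), (55, 30, mm)], [(22, 0, pp), (29, 2, mm), (32, 3, mm), (35, 4, mm), (38, 6, mm), (40, 8, mm), (48, 15, pp), (49, 17, pp), (51, 20, pp), (52, 23, pp), (53, 26, pp), (55, 33, mm)], [(22, 1, pp), (25, 2, pp), (28, 3, pp), (31, 4, pp), (34, 6, pp), (37, 8, pp), (48, 18, pp), (49, 21, pp), (51, 24, pp), (52, 27, pp), (53, 30, pp), (54, 33, pp)], [(26, 0, mm), (30, 1, mm), (33, 2, mm), (42, 5, mm), (44, 7, mm), (45, 9, mm), (46, 10, mm), (47, 11, mm), (50, 13, mm), (53, 22, mm), (54, 25, mm), (55, 29, mm)], [(23, 0, pp), (27, 1, pp), (33, 3, mm), (39, 5, pp), (41, 7, pp),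 (43, 9, pp), (46, 12, mm), (47, 14, mm), (50, 16, mm), (52, 22, pp), (54, 28, mm), (55, 32, mm)], [(19, 0, mm), (27, 2, pp), (30, 3, pp), (35, 5, mm), (38, 7, mm), (40, 9, mm), (46, 15, mm), (47, 17, mm), (50, 20, mm), (52, 25, pp), (53, 28, pp), (55, 36, mm)], [(19, 1, mm), (23, 2, mm), (26, 3, mm), (31, 5, pp), (34, 7, pp), (37, 9, pp), (46, 18, mm), (47, 21, mm), (50, 24, mm), (52, 29, pp), (53, 32, pp), (54, 36, pp)], [(20, 0, mm), (24, 1, mm), (33, 4, mm), (36, 5, mm), (41, 10, pp), (43, 11, pp), (44, 12, pp), (45, 14, pp), (50, 19, mm), (51, 22, mm), (54, 31, mm), (55, 35, mm)], [(16, 0, pp), (24, 2, mm), (30, 4, pp), (32, 5, pp), (38, 10, mm), (40, 11, mm), (44, 15, pp), (45, 17, pp), (50, 23, mm), (51, 25, mm), (53, 31, pp), (55, 39, mm)], [(16, 1, pp), (20, 2, pp), (26, 4, mm), (28, 5, mm), (34, 10, pp), (37, 11, pp), (44, 18, pp), (45, 21, pp), (50, 27, mm), (51, 29, mm), (53, 35, pp), (54,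 39, pp)], [(13, 0, mm), (24, 3, mm), (27, 4, mm), (29, 5, mm), (38, 12, mm), (40, 14, mm), (41, 15, mm), (43, 17, mm), (50, 26, mm), (51, 28, mm), (52, 31, mm), (55, 42, mm)], [(13, 1, mm), (20, 3, pp), (23, 4, pp), (25, 5, pp), (34, 12, pp), (37, 14, pp), (41, 18, mm), (43, 21, mm), (50, 30, mm), (51, 32, mm), (52, 35, mm), (54, 42, pp)], [(13, 2, mm), (16, 3, mm), (19, 4, mm), (22, 5, mm), (34, 15, pp), (37, 17, pp), (38, 18, pp), (40, 21, pp), (50, 33, mm), (51, 36, mm), (52, 39, mm), (53, 42, mm)], [(17, 0, pp), (21, 1, pp), (33, 6, mm), (36, 7, mm), (39, 10, mm), (42, 12, mm), (43, 13, pp), (45, 16, pp), (47, 19, pp), (49, 22, pp), (54, 34, mm), (55, 38, mm)], [(14, 0, mm), (21, 2, pp), (30, 6, pp), (32, 7, pp), (35, 10, pp), (40, 13, mm), (42, 15, mm), (45, 20, pp), (47, 23, pp), (49, 25, pp), (53, 34, pp), (55, 41, mm)], [(14, 1, mm), (17, 2, mm), (26, 6, mm), (28, 7, mm), (31, 10, mm), (37,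 13, pp), (42, 18, mm), (45, 24, pp), (47, 27, pp), (49, 29, pp), (53, 38, pp), (54, 41, pp)], [(11, 0, pp), (21, 3, pp), (27, 6, mm), (29, 7, mm), (35, 12, pp), (39, 15, pp), (40, 16, mm), (43, 20, mm), (47, 26, pp), (49, 28, pp), (52, 34, mm), (55, 44, mm)], [(11, 1, pp), (17, 3, mm), (23, 6, pp), (25, 7, pp), (31, 12, mm), (37, 16, pp), (39, 18, pp), (43, 24, mm), (47, 30, pp), (49, 32, pp), (52, 38, mm), (54, 44, pp)], [(11, 2, pp), (14, 3, pp), (19, 6, mm), (22, 7, mm), (31, 15, mm), (35, 18, mm), (37, 20, pp), (40, 24, pp), (47, 33, pp), (49, 36, pp), (52, 41, mm), (53, 44, mm)], [(9, 0, mm), (21, 4, pp), (24, 6, pp), (29, 10, mm), (32, 12, mm), (36, 15, mm), (40, 19, mm), (43, 23, mm), (45, 26, mm), (49, 31, pp), (51, 34, pp), (55, 46, mm)], [(9, 1, mm), (17, 4, mm), (20, 6, mm), (25, 10, pp), (28, 12, pp), (36, 18, mm), (37, 19, pp), (43, 27, mm), (45, 30, mm), (49, 35, pp), (51, 38, pp), (54,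 46, pp)], [(9, 2, mm), (14, 4, pp), (16, 6, pp), (22, 10, mm), (28, 15, pp), (32, 18, pp), (37, 23, pp), (40, 27, pp), (45, 33, mm), (49, 39, pp), (51, 41, pp), (53, 46, mm)], [(9, 3, mm), (11, 4, mm), (13, 6, mm), (22, 12, mm), (25, 15, mm), (29, 18, mm), (37, 26, pp), (40, 30, pp), (43, 33, pp), (49, 42, pp), (51, 44, pp), (52, 46, pp)], [(8, 0, pp), (21, 5, pp), (24, 7, pp), (27, 10, pp), (30, 12, pp), (33, 15, pp), (40, 22, mm), (43, 25, mm), (45, 28, mm), (47, 31, mm), (50, 34, mm), (55, 48, mm)], [(8, 1, pp), (17, 5, mm), (20, 7, mm), (23, 10, mm), (26, 12, mm), (33, 18, pp), (37, 22, pp), (43, 29, mm), (45, 32, mm), (47, 35, mm), (50, 38, mm), (54, 48, pp)], [(8, 2, pp), (14, 5, pp), (16, 7, pp), (19, 10, pp), (26, 15, mm), (30, 18, mm), (37, 25, pp), (40, 29, pp), (45, 36, mm), (47, 39, mm), (50, 41, mm), (53, 48, mm)], [(8, 3, pp), (11, 5, mm), (13, 7, mm), (19, 12, pp), (23, 15, pp), (27,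 18, pp), (37, 28, pp), (40, 32, pp), (43, 36, pp), (47, 42, mm), (50, 44, mm), (52, 48, pp)], [(8, 4, pp), (9, 5, pp), (13, 10, mm), (16, 12, mm), (20, 15, mm), (24, 18, mm), (37, 31, pp), (40, 35, pp), (43, 39, pp), (45, 42, pp), (50, 46, mm), (51, 48, mm)], [(8, 6, pp), (9, 7, pp), (11, 10, pp), (14, 12, pp), (17, 15, pp), (21, 18, pp), (37, 34, pp), (40, 38, pp), (43, 41, pp), (45, 44, pp), (47, 46, pp), (49, 48, pp)], [(15, 0, pp), (18, 1, pp), (33, 8, pp), (36, 9, pp), (39, 11, pp), (41, 13, pp), (42, 14, pp), (44, 16, pp), (46, 19, pp), (48, 22, pp), (54, 37, pp), (55, 40, pp)], [(12, 0, mm), (18, 2, pp), (30, 8, mm), (32, 9, mm), (35, 11, mm), (38, 13, mm), (42, 17, pp), (44, 20, pp), (46, 23, pp), (48, 25, pp), (53, 37, mm), (55, 43, pp)], [(12, 1, mm), (15, 2, mm), (26, 8, pp), (28, 9, pp), (31, 11, pp), (34, 13, pp), (42, 21, pp), (44, 24, pp), (46, 27, pp), (48, 29, pp), (53, 40, mm), (54,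 43, mm)], [(10, 0, pp), (18, 3, pp), (27, 8, pp), (29, 9, pp), (35, 14, mm), (38, 16, mm), (39, 17, mm), (41, 20, mm), (46, 26, pp), (48, 28, pp), (52, 37, pp), (55, 45, pp)], [(10, 1, pp), (15, 3, mm), (23, 8, mm), (25, 9, mm), (31, 14, pp), (34, 16, pp), (39, 21, mm), (41, 24, mm), (46, 30, pp), (48, 32, pp), (52, 40, pp), (54, 45, mm)], [(10, 2, pp), (12, 3, pp), (19, 8, pp), (22, 9, pp), (31, 17, pp), (34, 20, pp), (35, 21, pp), (38, 24, pp), (46, 33, pp), (48, 36, pp), (52, 43, pp), (53, 45, pp)], [(7, 0, mm), (18, 4, pp), (24, 8, mm), (29, 11, pp), (32, 14, pp), (36, 17, pp), (38, 19, mm), (41, 23, mm), (44, 26, mm), (48, 31, pp), (51, 37, mm), (55, 47, pp)], [(7, 1, mm), (15, 4, mm), (20, 8, pp), (25, 11, mm), (28, 14, mm), (34, 19, pp), (36, 21, pp), (41, 27, mm), (44, 30, mm), (48, 35, pp), (51, 40, mm), (54, 47, mm)], [(7, 2, mm), (12, 4, pp), (16, 8, mm), (22, 11, pp), (28, 17, mm), (32,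 21, mm), (34, 23, pp), (38, 27, pp), (44, 33, mm), (48, 39, pp), (51, 43, mm), (53, 47, pp)], [(7, 3, mm), (10, 4, mm), (13, 8, pp), (22, 14, pp), (25, 17, pp), (29, 21, pp), (34, 26, pp), (38, 30, pp), (41, 33, pp), (48, 42, pp), (51, 45, mm), (52, 47, mm)], [(5, 0, pp), (18, 6, pp), (21, 8, pp), (29, 13, pp), (32, 16, pp), (35, 19, pp), (36, 20, pp), (39, 23, pp), (42, 26, pp), (48, 34, pp), (49, 37, pp), (55, 50, pp)], [(5, 1, pp), (15, 6, mm), (17, 8, mm), (25, 13, mm), (28, 16, mm), (31, 19, mm), (36, 24, pp), (39, 27, pp), (42, 30, pp), (48, 38, pp), (49, 40, pp), (54, 50, mm)], [(5, 2, pp), (12, 6, pp), (14, 8, pp), (22, 13, pp), (28, 20, mm), (31, 23, mm), (32, 24, mm), (35, 27, mm), (42, 33, pp), (48, 41, pp), (49, 43, pp), (53, 50, pp)], [(5, 3, pp), (10, 6, mm), (11, 8, mm), (22, 16, pp), (25, 20, pp), (29, 24, pp), (31, 26, mm), (35, 30, mm), (39, 33, mm), (48, 44, pp), (49, 45, pp), (52,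 50, mm)], [(5, 4, pp), (7, 6, pp), (9, 8, pp), (22, 19, pp), (25, 23, pp), (28, 26, pp), (29, 27, pp), (32, 30, pp), (36, 33, pp), (48, 46, pp), (49, 47, pp), (51, 50, pp)], [(6, 0, pp), (18, 5, pp), (24, 9, mm), (27, 11, mm), (30, 14, mm), (33, 17, mm), (38, 22, mm), (41, 25, mm), (44, 28, mm), (46, 31, mm), (50, 37, pp), (55, 49, pp)], [(6, 1, pp), (15, 5, mm), (20, 9, pp), (23, 11, pp), (26, 14, pp), (33, 21, mm), (34, 22, pp), (41, 29, mm), (44, 32, mm), (46, 35, mm), (50, 40, pp), (54, 49, mm)], [(6, 2, pp), (12, 5, pp), (16, 9, mm), (19, 11, mm), (26, 17, pp), (30, 21, pp), (34, 25, pp), (38, 29, pp), (44, 36, mm), (46, 39, mm), (50, 43, pp), (53, 49, pp)], [(6, 3, pp), (10, 5, mm), (13, 9, pp), (19, 14, mm), (23, 17, mm), (27, 21, mm), (34, 28, pp), (38, 32, pp), (41, 36, pp), (46, 42, mm), (50, 45, pp), (52, 49, mm)], [(6, 4, pp), (7, 5, pp), (13, 11, pp), (16, 14, pp), (20, 17, pp), (24,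 21, pp), (34, 31, pp), (38, 35, pp), (41, 39, pp), (44, 42, pp), (50, 47, pp), (51, 49, pp)], [(4, 0, pp), (18, 7, mm), (21, 9, mm), (27, 13, pp), (30, 16, pp), (33, 20, pp), (35, 22, mm), (39, 25, mm), (42, 28, mm), (46, 34, pp), (47, 37, pp), (55, 51, mm)], [(4, 1, pp), (15, 7, pp), (17, 9, pp), (23, 13, mm), (26, 16, mm), (31, 22, pp), (33, 24, pp), (39, 29, mm), (42, 32, mm), (46, 38, pp), (47, 40, pp), (54, 51, pp)], [(4, 2, pp), (12, 7, mm), (14, 9, mm), (19, 13, pp), (26, 20, mm), (30, 24, mm), (31, 25, pp), (35, 29, pp), (42, 36, mm), (46, 41, pp), (47, 43, pp), (53, 51, mm)], [(4, 3, pp), (10, 7, pp), (11, 9, pp), (19, 16, pp), (23, 20, pp), (27, 24, pp), (31, 28, pp), (35, 32, pp), (39, 36, pp), (46, 44, pp), (47, 45, pp), (52, 51, pp)], [(3, 0, pp), (18, 10, pp), (21, 11, pp), (24, 13, pp), (30, 19, mm), (32, 22, mm), (33, 23, mm), (36, 25, mm), (42, 31, pp), (44, 34, pp), (45, 37, pp),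 (55, 52, pp)], [(3, 1, pp), (15, 10, mm), (17, 11, mm), (20, 13, mm), (26, 19, pp), (28, 22, pp), (33, 27, mm), (36, 29, mm), (42, 35, pp), (44, 38, pp), (45, 40, pp), (54, 52, mm)], [(3, 2, pp), (12, 10, pp), (14, 11, pp), (16, 13, pp), (26, 23, pp), (28, 25, pp), (30, 27, pp), (32, 29, pp), (42, 39, pp), (44, 41, pp), (45, 43, pp), (53, 52, pp)], [(2, 0, pp), (18, 12, mm), (21, 14, mm), (24, 16, mm), (27, 19, mm), (29, 22, mm), (33, 26, pp), (36, 28, pp), (39, 31, pp), (41, 34, pp), (43, 37, pp), (55, 53, mm)], [(2, 1, pp), (15, 12, pp), (17, 14, pp), (20, 16, pp), (23, 19, pp), (25, 22, pp), (33, 30, pp), (36, 32, pp), (39, 35, pp), (41, 38, pp), (43, 40, pp), (54, 53, pp)], [(1, 0, pp), (18, 15, pp), (21, 17, pp), (24, 20, pp), (27, 23, pp), (29, 25, pp), (30, 26, pp), (32, 28, pp), (35, 31, pp), (38, 34, pp), (40, 37, pp), (55, 54, pp)], [(0, 1, pp), (15, 18, pp), (17, 21, pp), (20, 24, pp),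 (23, 27, pp), (25, 29, pp), (26, 30, pp), (28, 32, pp), (31, 35, pp), (34, 38, pp), (37, 40, pp), (54, 55, pp)], [(1, 2, pp), (12, 15, pp), (14, 17, pp), (16, 20, pp), (19, 23, pp), (22, 25, pp), (30, 33, pp), (32, 36, pp), (35, 39, pp), (38, 41, pp), (40, 43, pp), (53, 54, pp)], [(0, 2, pp), (12, 18, mm), (14, 21, mm), (16, 24, mm), (19, 27, mm), (22, 29, mm), (26, 33, pp), (28, 36, pp), (31, 39, pp), (34, 41, pp), (37, 43, pp), (53, 55, mm)], [(2, 3, pp), (10, 12, pp), (11, 14, pp), (13, 16, pp), (23, 26, pp), (25, 28, pp), (27, 30, pp), (29, 32, pp), (39, 42, pp), (41, 44, pp), (43, 45, pp), (52, 53, pp)], [(1, 3, pp), (10, 15, mm), (11, 17, mm), (13, 20, mm), (19, 26, pp), (22, 28, pp), (27, 33, mm), (29, 36, mm), (35, 42, pp), (38, 44, pp), (40, 45, pp), (52, 54, mm)], [(0, 3, pp), (10, 18, pp), (11, 21, pp), (13, 24, pp), (19, 30, mm), (22, 32, mm), (23, 33, mm), (25, 36, mm), (31, 42, pp),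 (34, 44, pp), (37, 45, pp), (52, 55, pp)], [(3, 4, pp), (7, 10, pp), (9, 11, pp), (16, 19, pp), (20, 23, pp), (24, 27, pp), (28, 31, pp), (32, 35, pp), (36, 39, pp), (44, 46, pp), (45, 47, pp), (51, 52, pp)], [(2, 4, pp), (7, 12, mm), (9, 14, mm), (13, 19, pp), (20, 26, mm), (24, 30, mm), (25, 31, pp), (29, 35, pp), (36, 42, mm), (41, 46, pp), (43, 47, pp), (51, 53, mm)], [(1, 4, pp), (7, 15, pp), (9, 17, pp), (13, 23, mm), (16, 26, mm), (22, 31, pp), (24, 33, pp), (29, 39, mm), (32, 42, mm), (38, 46, pp), (40, 47, pp), (51, 54, pp)], [(0, 4, pp), (7, 18, mm), (9, 21, mm), (13, 27, pp), (16, 30, pp), (20, 33, pp), (22, 35, mm), (25, 39, mm), (28, 42, mm), (34, 46, pp), (37, 47, pp), (51, 55, mm)], [(4, 6, pp), (5, 7, pp), (11, 13, pp), (14, 16, pp), (17, 20, pp), (21, 24, pp), (31, 34, pp), (35, 38, pp), (39, 41, pp), (42, 44, pp), (47, 50, pp), (49, 51, pp)], [(3, 6, pp), (5, 10, mm), (9, 13, pp),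 (14, 19, mm), (17, 23, mm), (21, 27, mm), (28, 34, pp), (32, 38, pp), (36, 41, pp), (42, 46, mm), (45, 50, pp), (49, 52, mm)], [(2, 6, pp), (5, 12, pp), (9, 16, mm), (11, 19, mm), (17, 26, pp), (21, 30, pp), (25, 34, pp), (29, 38, pp), (36, 44, mm), (39, 46, mm), (43, 50, pp), (49, 53, pp)], [(1, 6, pp), (5, 15, mm), (9, 20, pp), (11, 23, pp), (14, 26, pp), (21, 33, mm), (22, 34, pp), (29, 41, mm), (32, 44, mm), (35, 46, mm), (40, 50, pp), (49, 54, mm)], [(0, 6, pp), (5, 18, pp), (9, 24, mm), (11, 27, mm), (14, 30, mm), (17, 33, mm), (22, 38, mm), (25, 41, mm), (28, 44, mm), (31, 46, mm), (37, 50, pp), (49, 55, pp)], [(4, 5, pp), (6, 7, pp), (8, 9, pp), (19, 22, pp), (23, 25, pp), (26, 28, pp), (27, 29, pp), (30, 32, pp), (33, 36, pp), (46, 48, pp), (47, 49, pp), (50, 51, pp)], [(3, 5, pp), (6, 10, mm), (8, 11, mm), (16, 22, pp), (20, 25, pp), (24, 29, pp), (26, 31, mm), (30, 35, mm), (33, 39, mm),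 (44, 48, pp), (45, 49, pp), (50, 52, mm)], [(2, 5, pp), (6, 12, pp), (8, 14, pp), (13, 22, pp), (20, 28, mm), (23, 31, mm), (24, 32, mm), (27, 35, mm), (33, 42, pp), (41, 48, pp), (43, 49, pp), (50, 53, pp)], [(1, 5, pp), (6, 15, mm), (8, 17, mm), (13, 25, mm), (16, 28, mm), (19, 31, mm), (24, 36, pp), (27, 39, pp), (30, 42, pp), (38, 48, pp), (40, 49, pp), (50, 54, mm)], [(0, 5, pp), (6, 18, pp), (8, 21, pp), (13, 29, pp), (16, 32, pp), (19, 35, pp), (20, 36, pp), (23, 39, pp), (26, 42, pp), (34, 48, pp), (37, 49, pp), (50, 55, pp)], [(3, 7, mm), (4, 10, mm), (8, 13, pp), (14, 22, pp), (17, 25, pp), (21, 29, pp), (26, 34, pp), (30, 38, pp), (33, 41, pp), (42, 48, pp), (45, 51, mm), (47, 52, mm)], [(2, 7, mm), (4, 12, pp), (8, 16, mm), (11, 22, pp), (17, 28, mm), (21, 32, mm), (23, 34, pp), (27, 38, pp), (33, 44, mm), (39, 48, pp), (43, 51, mm), (47, 53, pp)], [(1, 7, mm), (4, 15, mm), (8, 20, pp),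 (11, 25, mm), (14, 28, mm), (19, 34, pp), (21, 36, pp), (27, 41, mm), (30, 44, mm), (35, 48, pp), (40, 51, mm), (47, 54, mm)], [(0, 7, mm), (4, 18, pp), (8, 24, mm), (11, 29, pp), (14, 32, pp), (17, 36, pp), (19, 38, mm), (23, 41, mm), (26, 44, mm), (31, 48, pp), (37, 51, mm), (47, 55, pp)], [(2, 10, pp), (3, 12, pp), (8, 19, pp), (9, 22, pp), (17, 31, pp), (20, 34, pp), (21, 35, pp), (24, 38, pp), (33, 46, pp), (36, 48, pp), (43, 52, pp), (45, 53, pp)], [(1, 10, pp), (3, 15, mm), (8, 23, mm), (9, 25, mm), (14, 31, pp), (16, 34, pp), (21, 39, mm), (24, 41, mm), (30, 46, pp), (32, 48, pp), (40, 52, pp), (45, 54, mm)], [(0, 10, pp), (3, 18, pp), (8, 27, pp), (9, 29, pp), (14, 35, mm), (16, 38, mm), (17, 39, mm), (20, 41, mm), (26, 46, pp), (28, 48, pp), (37, 52, pp), (45, 55, pp)], [(1, 12, mm), (2, 15, mm), (8, 26, pp), (9, 28, pp), (11, 31, pp), (13, 34, pp), (21, 42, pp), (24, 44, pp), (27, 46, pp),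 (29, 48, pp), (40, 53, mm), (43, 54, mm)], [(0, 12, mm), (2, 18, pp), (8, 30, mm), (9, 32, mm), (11, 35, mm), (13, 38, mm), (17, 42, pp), (20, 44, pp), (23, 46, pp), (25, 48, pp), (37, 53, mm), (43, 55, pp)], [(0, 15, pp), (1, 18, pp), (8, 33, pp), (9, 36, pp), (11, 39, pp), (13, 41, pp), (14, 42, pp), (16, 44, pp), (19, 46, pp), (22, 48, pp), (37, 54, pp), (40, 55, pp)], [(6, 8, pp), (7, 9, pp), (10, 11, pp), (12, 14, pp), (15, 17, pp), (18, 21, pp), (34, 37, pp), (38, 40, pp), (41, 43, pp), (44, 45, pp), (46, 47, pp), (48, 49, pp)], [(4, 8, pp), (5, 9, pp), (10, 13, mm), (12, 16, mm), (15, 20, mm), (18, 24, mm), (31, 37, pp), (35, 40, pp), (39, 43, pp), (42, 45, pp), (46, 50, mm), (48, 51, mm)], [(3, 8, pp), (5, 11, mm), (7, 13, mm), (12, 19, pp), (15, 23, pp), (18, 27, pp), (28, 37, pp), (32, 40, pp), (36, 43, pp), (42, 47, mm), (44, 50, mm), (48, 52, pp)], [(2, 8, pp), (5, 14, pp), (7, 16, pp),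 (10, 19, pp), (15, 26, mm), (18, 30, mm), (25, 37, pp), (29, 40, pp), (36, 45, mm), (39, 47, mm), (41, 50, mm), (48, 53, mm)], [(1, 8, pp), (5, 17, mm), (7, 20, mm), (10, 23, mm), (12, 26, mm), (18, 33, pp), (22, 37, pp), (29, 43, mm), (32, 45, mm), (35, 47, mm), (38, 50, mm), (48, 54, pp)], [(0, 8, pp), (5, 21, pp), (7, 24, pp), (10, 27, pp), (12, 30, pp), (15, 33, pp), (22, 40, mm), (25, 43, mm), (28, 45, mm), (31, 47, mm), (34, 50, mm), (48, 55, mm)], [(3, 9, mm), (4, 11, mm), (6, 13, mm), (12, 22, mm), (15, 25, mm), (18, 29, mm), (26, 37, pp), (30, 40, pp), (33, 43, pp), (42, 49, pp), (44, 51, pp), (46, 52, pp)], [(2, 9, mm), (4, 14, pp), (6, 16, pp), (10, 22, mm), (15, 28, pp), (18, 32, pp), (23, 37, pp), (27, 40, pp), (33, 45, mm), (39, 49, pp), (41, 51, pp), (46, 53, mm)], [(1, 9, mm), (4, 17, mm), (6, 20, mm), (10, 25, pp), (12, 28, pp), (18, 36, mm), (19, 37, pp), (27, 43, mm), (30, 45, mm),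 (35, 49, pp), (38, 51, pp), (46, 54, pp)], [(0, 9, mm), (4, 21, pp), (6, 24, pp), (10, 29, mm), (12, 32, mm), (15, 36, mm), (19, 40, mm), (23, 43, mm), (26, 45, mm), (31, 49, pp), (34, 51, pp), (46, 55, mm)], [(2, 11, pp), (3, 14, pp), (6, 19, mm), (7, 22, mm), (15, 31, mm), (18, 35, mm), (20, 37, pp), (24, 40, pp), (33, 47, pp), (36, 49, pp), (41, 52, mm), (44, 53, mm)], [(1, 11, pp), (3, 17, mm), (6, 23, pp), (7, 25, pp), (12, 31, mm), (16, 37, pp), (18, 39, pp), (24, 43, mm), (30, 47, pp), (32, 49, pp), (38, 52, mm), (44, 54, pp)], [(0, 11, pp), (3, 21, pp), (6, 27, mm), (7, 29, mm), (12, 35, pp), (15, 39, pp), (16, 40, mm), (20, 43, mm), (26, 47, pp), (28, 49, pp), (34, 52, mm), (44, 55, mm)], [(1, 14, mm), (2, 17, mm), (6, 26, mm), (7, 28, mm), (10, 31, mm), (13, 37, pp), (18, 42, mm), (24, 45, pp), (27, 47, pp), (29, 49, pp), (38, 53, pp), (41, 54, pp)], [(0, 14, mm), (2, 21, pp), (6, 30, pp),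 (7, 32, pp), (10, 35, pp), (13, 40, mm), (15, 42, mm), (20, 45, pp), (23, 47, pp), (25, 49, pp), (34, 53, pp), (41, 55, mm)], [(0, 17, pp), (1, 21, pp), (6, 33, mm), (7, 36, mm), (10, 39, mm), (12, 42, mm), (13, 43, pp), (16, 45, pp), (19, 47, pp), (22, 49, pp), (34, 54, mm), (38, 55, mm)], [(2, 13, mm), (3, 16, mm), (4, 19, mm), (5, 22, mm), (15, 34, pp), (17, 37, pp), (18, 38, pp), (21, 40, pp), (33, 50, mm), (36, 51, mm), (39, 52, mm), (42, 53, mm)], [(1, 13, mm), (3, 20, pp), (4, 23, pp), (5, 25, pp), (12, 34, pp), (14, 37, pp), (18, 41, mm), (21, 43, mm), (30, 50, mm), (32, 51, mm), (35, 52, mm), (42, 54, pp)], [(0, 13, mm), (3, 24, mm), (4, 27, mm), (5, 29, mm), (12, 38, mm), (14, 40, mm), (15, 41, mm), (17, 43, mm), (26, 50, mm), (28, 51, mm), (31, 52, mm), (42, 55, mm)], [(1, 16, pp), (2, 20, pp), (4, 26, mm), (5, 28, mm), (10, 34, pp), (11, 37, pp), (18, 44, pp), (21, 45, pp), (27, 50, mm),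 (29, 51, mm), (35, 53, pp), (39, 54, pp)], [(0, 16, pp), (2, 24, mm), (4, 30, pp), (5, 32, pp), (10, 38, mm), (11, 40, mm), (15, 44, pp), (17, 45, pp), (23, 50, mm), (25, 51, mm), (31, 53, pp), (39, 55, mm)], [(0, 20, mm), (1, 24, mm), (4, 33, mm), (5, 36, mm), (10, 41, pp), (11, 43, pp), (12, 44, pp), (14, 45, pp), (19, 50, mm), (22, 51, mm), (31, 54, mm), (35, 55, mm)], [(1, 19, mm), (2, 23, mm), (3, 26, mm), (5, 31, pp), (7, 34, pp), (9, 37, pp), (18, 46, mm), (21, 47, mm), (24, 50, mm), (29, 52, pp), (32, 53, pp), (36, 54, pp)], [(0, 19, mm), (2, 27, pp), (3, 30, pp), (5, 35, mm), (7, 38, mm), (9, 40, mm), (15, 46, mm), (17, 47, mm), (20, 50, mm), (25, 52, pp), (28, 53, pp), (36, 55, mm)], [(0, 23, pp), (1, 27, pp), (3, 33, mm), (5, 39, pp), (7, 41, pp), (9, 43, pp), (12, 46, mm), (14, 47, mm), (16, 50, mm), (22, 52, pp), (28, 54, mm), (32, 55, mm)], [(0, 26, mm), (1, 30, mm), (2, 33, mm), (5,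 42, mm), (7, 44, mm), (9, 45, mm), (10, 46, mm), (11, 47, mm), (13, 50, mm), (22, 53, mm), (25, 54, mm), (29, 55, mm)], [(1, 22, pp), (2, 25, pp), (3, 28, pp), (4, 31, pp), (6, 34, pp), (8, 37, pp), (18, 48, pp), (21, 49, pp), (24, 51, pp), (27, 52, pp), (30, 53, pp), (33, 54, pp)], [(0, 22, pp), (2, 29, mm), (3, 32, mm), (4, 35, mm), (6, 38, mm), (8, 40, mm), (15, 48, pp), (17, 49, pp), (20, 51, pp), (23, 52, pp), (26, 53, pp), (33, 55, mm)], [(0, 25, mm), (1, 29, mm), (3, 36, pp), (4, 39, pp), (6, 41, pp), (8, 43, pp), (12, 48, pp), (14, 49, pp), (16, 51, pp), (19, 52, pp), (26, 54, mm), (30, 55, mm)], [(0, 28, pp), (1, 32, pp), (2, 36, pp), (4, 42, mm), (6, 44, mm), (8, 45, mm), (10, 48, pp), (11, 49, pp), (13, 51, pp), (19, 53, mm), (23, 54, mm), (27, 55, mm)], [(0, 31, mm), (1, 35, mm), (2, 39, mm), (3, 42, mm), (6, 46, pp), (7, 48, pp), (8, 47, pp), (9, 49, pp), (13, 52, mm), (16, 53, mm), (20,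 54, mm), (24, 55, mm)], [(0, 34, pp), (1, 38, pp), (2, 41, pp), (3, 44, pp), (4, 46, pp), (5, 48, pp), (8, 50, mm), (9, 51, mm), (11, 52, mm), (14, 53, mm), (17, 54, mm), (21, 55, mm)], [(0, 37, mm), (1, 40, mm), (2, 43, mm), (3, 45, mm), (4, 47, mm), (5, 49, mm), (6, 50, mm), (7, 51, mm), (10, 52, mm), (12, 53, mm), (15, 54, mm), (18, 55, mm)]]

/-- The matrix of a root. -/
def tb (r : ℕ) : Sp := tbL.getD r []

/-- The matrices of the `n_i`. -/
def UL : List Sp :=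
  [[(0, 0, pp), (1, 1, pp), (2, 2, pp), (3, 3, pp), (4, 4, pp), (5, 5, pp), (6, 8, pp), (7, 9, pp), (8, 6, mm), (9, 7, mm), (10, 11, pp), (11, 10, mm), (12, 14, pp), (13, 13, pp), (14, 12, mm), (15, 17, pp), (16, 16, pp), (17, 15, mm), (18, 21, pp), (19, 19, pp), (20, 20, pp), (21, 18, mm), (22, 22, pp), (23, 23, pp), (24, 24, pp), (25, 25, pp), (26, 26, pp), (27, 27, pp), (28, 28, pp), (29, 29, pp), (30, 30, pp), (31, 31, pp), (32, 32, pp), (33, 33, pp), (34, 37, pp), (35, 35, pp), (36, 36, pp), (37, 34, mm), (38, 40, pp), (39, 39, pp), (40, 38, mm), (41, 43, pp), (42, 42, pp), (43, 41, mm), (44, 45, pp), (45, 44, mm), (46, 47, pp), (47, 46, mm), (48, 49, pp), (49, 48, mm), (50, 50, pp), (51, 51, pp), (52, 52, pp), (53, 53, pp), (54, 54, pp), (55, 55, pp)],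
  [(0, 0, pp), (1, 1, pp), (2, 2, pp), (3, 3, pp), (4, 5, pp), (5, 4, mm), (6, 7, pp), (7, 6, mm), (8, 9, pp), (9, 8, mm), (10, 10, pp), (11, 11, pp), (12, 12, pp), (13, 13, pp), (14, 14, pp), (15, 15, pp), (16, 16, pp), (17, 17, pp), (18, 18, pp), (19, 22, pp), (20, 20, pp), (21, 21, pp), (22, 19, mm), (23, 25, pp), (24, 24, pp), (25, 23, mm), (26, 28, pp), (27, 29, pp), (28, 26, mm), (29, 27, mm), (30, 32, pp), (31, 31, pp), (32, 30, mm), (33, 36, pp), (34, 34, pp), (35, 35, pp), (36, 33, mm), (37, 37, pp), (38, 38, pp), (39, 39, pp), (40, 40, pp), (41, 41, pp), (42, 42, pp), (43, 43, pp), (44, 44, pp), (45, 45, pp), (46, 48, pp), (47, 49, pp), (48, 46, mm), (49, 47, mm), (50, 51, pp), (51, 50, mm), (52, 52, pp), (53, 53, pp), (54, 54, pp), (55, 55, pp)],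
  [(0, 0, pp), (1, 1, pp), (2, 2, pp), (3, 3, pp), (4, 6, pp), (5, 7, pp), (6, 4, mm), (7, 5, mm), (8, 8, pp), (9, 9, pp), (10, 10, pp), (11, 13, pp), (12, 12, pp), (13, 11, mm), (14, 16, pp), (15, 15, pp), (16, 14, mm), (17, 20, pp), (18, 18, pp), (19, 19, pp), (20, 17, mm), (21, 24, pp), (22, 22, pp), (23, 23, pp), (24, 21, mm), (25, 25, pp), (26, 26, pp), (27, 27, pp), (28, 28, pp), (29, 29, pp), (30, 30, pp), (31, 34, pp), (32, 32, pp), (33, 33, pp), (34, 31, mm), (35, 38, pp), (36, 36, pp), (37, 37, pp), (38, 35, mm), (39, 41, pp), (40, 40, pp), (41, 39, mm), (42, 44, pp), (43, 43, pp), (44, 42, mm), (45, 45, pp), (46, 46, pp), (47, 50, pp), (48, 48, pp), (49, 51, pp), (50, 47, mm), (51, 49, mm), (52, 52, pp), (53, 53, pp), (54, 54, pp), (55, 55, pp)],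
  [(0, 0, pp), (1, 1, pp), (2, 2, pp), (3, 4, pp), (4, 3, mm), (5, 5, pp), (6, 6, pp), (7, 10, pp), (8, 8, pp), (9, 11, pp), (10, 7, mm), (11, 9, mm), (12, 12, pp), (13, 13, pp), (14, 14, pp), (15, 15, pp), (16, 19, pp), (17, 17, pp), (18, 18, pp), (19, 16, mm), (20, 23, pp), (21, 21, pp), (22, 22, pp), (23, 20, mm), (24, 27, pp), (25, 25, pp), (26, 26, pp), (27, 24, mm), (28, 31, pp), (29, 29, pp), (30, 30, pp), (31, 28, mm), (32, 35, pp), (33, 33, pp), (34, 34, pp), (35, 32, mm), (36, 39, pp), (37, 37, pp), (38, 38, pp), (39, 36, mm), (40, 40, pp), (41, 41, pp), (42, 42, pp), (43, 43, pp), (44, 46, pp), (45, 47, pp), (46, 44, mm), (47, 45, mm), (48, 48, pp), (49, 49, pp), (50, 50, pp), (51, 52, pp), (52, 51, mm), (53, 53, pp), (54, 54, pp), (55, 55, pp)],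
  [(0, 0, pp), (1, 1, pp), (2, 3, pp), (3, 2, mm), (4, 4, pp), (5, 5, pp), (6, 6, pp), (7, 7, pp), (8, 8, pp), (9, 9, pp), (10, 12, pp), (11, 14, pp), (12, 10, mm), (13, 16, pp), (14, 11, mm), (15, 15, pp), (16, 13, mm), (17, 17, pp), (18, 18, pp), (19, 19, pp), (20, 20, pp), (21, 21, pp), (22, 22, pp), (23, 26, pp), (24, 24, pp), (25, 28, pp), (26, 23, mm), (27, 30, pp), (28, 25, mm), (29, 32, pp), (30, 27, mm), (31, 31, pp), (32, 29, mm), (33, 33, pp), (34, 34, pp), (35, 35, pp), (36, 36, pp), (37, 37, pp), (38, 38, pp), (39, 42, pp), (40, 40, pp), (41, 44, pp), (42, 39, mm), (43, 45, pp), (44, 41, mm), (45, 43, mm), (46, 46, pp), (47, 47, pp), (48, 48, pp), (49, 49, pp), (50, 50, pp), (51, 51, pp), (52, 53, pp), (53, 52, mm), (54, 54, pp), (55, 55, pp)],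
  [(0, 0, pp), (1, 2, pp), (2, 1, mm), (3, 3, pp), (4, 4, pp), (5, 5, pp), (6, 6, pp), (7, 7, pp), (8, 8, pp), (9, 9, pp), (10, 10, pp), (11, 11, pp), (12, 15, pp), (13, 13, pp), (14, 17, pp), (15, 12, mm), (16, 20, pp), (17, 14, mm), (18, 18, pp), (19, 23, pp), (20, 16, mm), (21, 21, pp), (22, 25, pp), (23, 19, mm), (24, 24, pp), (25, 22, mm), (26, 26, pp), (27, 27, pp), (28, 28, pp), (29, 29, pp), (30, 33, pp), (31, 31, pp), (32, 36, pp), (33, 30, mm), (34, 34, pp), (35, 39, pp), (36, 32, mm), (37, 37, pp), (38, 41, pp), (39, 35, mm), (40, 43, pp), (41, 38, mm), (42, 42, pp), (43, 40, mm), (44, 44, pp), (45, 45, pp), (46, 46, pp), (47, 47, pp), (48, 48, pp), (49, 49, pp), (50, 50, pp), (51, 51, pp), (52, 52, pp), (53, 54, pp), (54, 53, mm), (55, 55, pp)],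
  [(0, 1, pp), (1, 0, mm), (2, 2, pp), (3, 3, pp), (4, 4, pp), (5, 5, pp), (6, 6, pp), (7, 7, pp), (8, 8, pp), (9, 9, pp), (10, 10, pp), (11, 11, pp), (12, 12, pp), (13, 13, pp), (14, 14, pp), (15, 18, pp), (16, 16, pp), (17, 21, pp), (18, 15, mm), (19, 19, pp), (20, 24, pp), (21, 17, mm), (22, 22, pp), (23, 27, pp), (24, 20, mm), (25, 29, pp), (26, 30, pp), (27, 23, mm), (28, 32, pp), (29, 25, mm), (30, 26, mm), (31, 35, pp), (32, 28, mm), (33, 33, pp), (34, 38, pp), (35, 31, mm), (36, 36, pp), (37, 40, pp), (38, 34, mm), (39, 39, pp), (40, 37, mm), (41, 41, pp), (42, 42, pp), (43, 43, pp), (44, 44, pp), (45, 45, pp), (46, 46, pp), (47, 47, pp), (48, 48, pp), (49, 49, pp), (50, 50, pp), (51, 51, pp), (52, 52, pp), (53, 53, pp), (54, 55, pp), (55, 54, mm)]]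

/-- The inverses of the matrices of the `n_i`. -/
def VL : List Sp :=
  [[(0, 0, pp), (1, 1, pp), (2, 2, pp), (3, 3, pp), (4, 4, pp), (5, 5, pp), (6, 8, mm), (7, 9, mm), (8, 6, pp), (9, 7, pp), (10, 11, mm), (11, 10, pp), (12, 14, mm), (13, 13, pp), (14, 12, pp), (15, 17, mm), (16, 16, pp), (17, 15, pp), (18, 21, mm), (19, 19, pp), (20, 20, pp), (21, 18, pp), (22, 22, pp), (23, 23, pp), (24, 24, pp), (25, 25, pp), (26, 26, pp), (27, 27, pp), (28, 28, pp), (29, 29, pp), (30, 30, pp), (31, 31, pp), (32, 32, pp), (33, 33, pp), (34, 37, mm), (35, 35, pp), (36, 36, pp), (37, 34, pp), (38, 40, mm), (39, 39, pp), (40, 38, pp), (41, 43, mm), (42, 42, pp), (43, 41, pp), (44, 45, mm), (45, 44, pp), (46, 47, mm), (47, 46, pp), (48, 49, mm), (49, 48, pp), (50, 50, pp), (51, 51, pp), (52, 52, pp), (53, 53, pp), (54, 54, pp), (55, 55, pp)],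
  [(0, 0, pp), (1, 1, pp), (2, 2, pp), (3, 3, pp), (4, 5, mm), (5, 4, pp), (6, 7, mm), (7, 6, pp), (8, 9, mm), (9, 8, pp), (10, 10, pp), (11, 11, pp), (12, 12, pp), (13, 13, pp), (14, 14, pp), (15, 15, pp), (16, 16, pp), (17, 17, pp), (18, 18, pp), (19, 22, mm), (20, 20, pp), (21, 21, pp), (22, 19, pp), (23, 25, mm), (24, 24, pp), (25, 23, pp), (26, 28, mm), (27, 29, mm), (28, 26, pp), (29, 27, pp), (30, 32, mm), (31, 31, pp), (32, 30, pp), (33, 36, mm), (34, 34, pp), (35, 35, pp), (36, 33, pp), (37, 37, pp), (38, 38, pp), (39, 39, pp), (40, 40, pp), (41, 41, pp), (42, 42, pp), (43, 43, pp), (44, 44, pp), (45, 45, pp), (46, 48, mm), (47, 49, mm), (48, 46, pp), (49, 47, pp), (50, 51, mm), (51, 50, pp), (52, 52, pp), (53, 53, pp), (54, 54, pp), (55, 55, pp)],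
  [(0, 0, pp), (1, 1, pp), (2, 2, pp), (3, 3, pp), (4, 6, mm), (5, 7, mm), (6, 4, pp), (7, 5, pp), (8, 8, pp), (9, 9, pp), (10, 10, pp), (11, 13, mm), (12, 12, pp), (13, 11, pp), (14, 16, mm), (15, 15, pp), (16, 14, pp), (17, 20, mm), (18, 18, pp), (19, 19, pp), (20, 17, pp), (21, 24, mm), (22, 22, pp), (23, 23, pp), (24, 21, pp), (25, 25, pp), (26, 26, pp), (27, 27, pp), (28, 28, pp), (29, 29, pp), (30, 30, pp), (31, 34, mm), (32, 32, pp), (33, 33, pp), (34, 31, pp), (35, 38, mm), (36, 36, pp), (37, 37, pp), (38, 35, pp), (39, 41, mm), (40, 40, pp), (41, 39, pp), (42, 44, mm), (43, 43, pp), (44, 42, pp), (45, 45, pp), (46, 46, pp), (47, 50, mm), (48, 48, pp), (49, 51, mm), (50, 47, pp), (51, 49, pp), (52, 52, pp), (53, 53, pp), (54, 54, pp), (55, 55, pp)],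
  [(0, 0, pp), (1, 1, pp), (2, 2, pp), (3, 4, mm), (4, 3, pp), (5, 5, pp), (6, 6, pp), (7, 10, mm), (8, 8, pp), (9, 11, mm), (10, 7, pp), (11, 9, pp), (12, 12, pp), (13, 13, pp), (14, 14, pp), (15, 15, pp), (16, 19, mm), (17, 17, pp), (18, 18, pp), (19, 16, pp), (20, 23, mm), (21, 21, pp), (22, 22, pp), (23, 20, pp), (24, 27, mm), (25, 25, pp), (26, 26, pp), (27, 24, pp), (28, 31, mm), (29, 29, pp), (30, 30, pp), (31, 28, pp), (32, 35, mm), (33, 33, pp), (34, 34, pp), (35, 32, pp), (36, 39, mm), (37, 37, pp), (38, 38, pp), (39, 36, pp), (40, 40, pp), (41, 41, pp), (42, 42, pp), (43, 43, pp), (44, 46, mm), (45, 47, mm), (46, 44, pp), (47, 45, pp), (48, 48, pp), (49, 49, pp), (50, 50, pp), (51, 52, mm), (52, 51, pp), (53, 53, pp), (54, 54, pp), (55, 55, pp)],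
  [(0, 0, pp), (1, 1, pp), (2, 3, mm), (3, 2, pp), (4, 4, pp), (5, 5, pp), (6, 6, pp), (7, 7, pp), (8, 8, pp), (9, 9, pp), (10, 12, mm), (11, 14, mm), (12, 10, pp), (13, 16, mm), (14, 11, pp), (15, 15, pp), (16, 13, pp), (17, 17, pp), (18, 18, pp), (19, 19, pp), (20, 20, pp), (21, 21, pp), (22, 22, pp), (23, 26, mm), (24, 24, pp), (25, 28, mm), (26, 23, pp), (27, 30, mm), (28, 25, pp), (29, 32, mm), (30, 27, pp), (31, 31, pp), (32, 29, pp), (33, 33, pp), (34, 34, pp), (35, 35, pp), (36, 36, pp), (37, 37, pp), (38, 38, pp), (39, 42, mm), (40, 40, pp), (41, 44, mm), (42, 39, pp), (43, 45, mm), (44, 41, pp), (45, 43, pp), (46, 46, pp), (47, 47, pp), (48, 48, pp), (49, 49, pp), (50, 50, pp), (51, 51, pp), (52, 53, mm), (53, 52, pp), (54, 54, pp), (55, 55, pp)],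
  [(0, 0, pp), (1, 2, mm), (2, 1, pp), (3, 3, pp), (4, 4, pp), (5, 5, pp), (6, 6, pp), (7, 7, pp), (8, 8, pp), (9, 9, pp), (10, 10, pp), (11, 11, pp), (12, 15, mm), (13, 13, pp), (14, 17, mm), (15, 12, pp), (16, 20, mm), (17, 14, pp), (18, 18, pp), (19, 23, mm), (20, 16, pp), (21, 21, pp), (22, 25, mm), (23, 19, pp), (24, 24, pp), (25, 22, pp), (26, 26, pp), (27, 27, pp), (28, 28, pp), (29, 29, pp), (30, 33, mm), (31, 31, pp), (32, 36, mm), (33, 30, pp), (34, 34, pp), (35, 39, mm), (36, 32, pp), (37, 37, pp), (38, 41, mm), (39, 35, pp), (40, 43, mm), (41, 38, pp), (42, 42, pp), (43, 40, pp), (44, 44, pp), (45, 45, pp), (46, 46, pp), (47, 47, pp), (48, 48, pp), (49, 49, pp), (50, 50, pp), (51, 51, pp), (52, 52, pp), (53, 54, mm), (54, 53, pp), (55, 55, pp)],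
  [(0, 1, mm), (1, 0, pp), (2, 2, pp), (3, 3, pp), (4, 4, pp), (5, 5, pp), (6, 6, pp), (7, 7, pp), (8, 8, pp), (9, 9, pp), (10, 10, pp), (11, 11, pp), (12, 12, pp), (13, 13, pp), (14, 14, pp), (15, 18, mm), (16, 16, pp), (17, 21, mm), (18, 15, pp), (19, 19, pp), (20, 24, mm), (21, 17, pp), (22, 22, pp), (23, 27, mm), (24, 20, pp), (25, 29, mm), (26, 30, mm), (27, 23, pp), (28, 32, mm), (29, 25, pp), (30, 26, pp), (31, 35, mm), (32, 28, pp), (33, 33, pp), (34, 38, mm), (35, 31, pp), (36, 36, pp), (37, 40, mm), (38, 34, pp), (39, 39, pp), (40, 37, pp), (41, 41, pp), (42, 42, pp), (43, 43, pp), (44, 44, pp), (45, 45, pp), (46, 46, pp), (47, 47, pp), (48, 48, pp), (49, 49, pp), (50, 50, pp), (51, 51, pp), (52, 52, pp), (53, 53, pp), (54, 55, mm), (55, 54, pp)]]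

/-- The vector of the central elements. -/
def wL : List ℤ := [0, 1, 0, 0, 1, 0, 1]

/-- The coefficients expressing the components by the characters. -/
def bL : List (List ℤ) := [[2, 2, 3, 4, 3, 2, 1], [1, 2, 2, 3, 2, 1, 0], [3, 4, 6, 8, 6, 4, 2], [4, 6, 8, 12, 9, 6, 3], [2, 3, 4, 6, 5, 3, 1], [2, 3, 4, 6, 5, 4, 2], [0, 0, 0, 0, 0, 0, 0]]

/-- The coefficients expressing the order by the characters. -/
def aL : List ℤ := [2, 3, 4, 6, 5, 4, 3]

theorem c1 : baseChk chevE7 126 56 125 tb = true := by decide +kernel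

theorem u0 : conjChk chevE7 126 56 0 tb (UL.getD 0 []) (VL.getD 0 []) (etaOf Cfsg.Agent.Lib.Chevalley.Tbl.E7.wT 0) = true := by decide +kernel
theorem u1 : conjChk chevE7 126 56 1 tb (UL.getD 1 []) (VL.getD 1 []) (etaOf Cfsg.Agent.Lib.Chevalley.Tbl.E7.wT 1) = true := by decide +kernel
theorem u2 : conjChk chevE7 126 56 2 tb (UL.getD 2 []) (VL.getD 2 []) (etaOf Cfsg.Agent.Lib.Chevalley.Tbl.E7.wT 2) = true := by decide +kernel
theorem u3 : conjChk chevE7 126 56 3 tb (UL.getD 3 []) (VL.getD 3 []) (etaOf Cfsg.Agent.Lib.Chevalley.Tbl.E7.wT 3) = true := by decide +kernel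
theorem u4 : conjChk chevE7 126 56 4 tb (UL.getD 4 []) (VL.getD 4 []) (etaOf Cfsg.Agent.Lib.Chevalley.Tbl.E7.wT 4) = true := by decide +kernel
theorem u5 : conjChk chevE7 126 56 5 tb (UL.getD 5 []) (VL.getD 5 []) (etaOf Cfsg.Agent.Lib.Chevalley.Tbl.E7.wT 5) = true := by decide +kernel
theorem u6 : conjChk chevE7 126 56 6 tb (UL.getD 6 []) (VL.getD 6 []) (etaOf Cfsg.Agent.Lib.Chevalley.Tbl.E7.wT 6) = true := by decide +kernel

theorem c2 : hwChk chevE7 56 tb 6 = true := by decide +kernel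

theorem c3 : CenFacts chevE7 2 6 (fun j => wL.getD j 0) (fun j i => (bL.getD j []).getD i 0) (fun i => aL.getD i 0) where
  hb := by decide +kernel
  ha := by decide +kernel
  hw := by decide +kernel
  hd := by decide +kernel

theorem conj_all : ∀ i < chevE7.rank, ∃ U V, conjChk chevE7 126 56 i tb U V (etaOf Cfsg.Agent.Lib.Chevalley.Tbl.E7.wT i) = true := by
  intro i hi
  have hi' : i < 7 := hi
  interval_cases i
  · exact ⟨_, _, u0⟩
  · exact ⟨_, _, u1⟩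
  · exact ⟨_, _, u2⟩
  · exact ⟨_, _, u3⟩
  · exact ⟨_, _, u4⟩
  · exact ⟨_, _, u5⟩
  · exact ⟨_, _, u6⟩

end Cfsg.Agent.Lib.Steinberg.Gen.RepData.E7
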